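import Groth.Agent.SubImmLib.Locus
import Groth.Agent.FibLocFreeLib.Main
import Groth.Agent.FlatLib.SectionsFP
import Groth.Agent.HilbLCLib.Basic
import Groth.Agent.BlowRegLib.ModFibGrpd
import Groth.Prelude.Def_ModSt

/-!
# Families of line bundles inside families of finitely presented flat modules
-/

set_option autoImplicit false
set_option linter.style.haveILetI false
set_option maxHeartbeats 1000000
set_option backward.isDefEq.respectTransparency false
set_option backward.isDefEq.respectTransparency.types false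

universe u

open CategoryTheory CategoryTheory.Limits AlgebraicGeometry TopologicalSpace Opposite Topology

noncomputable section

namespace SubImmLib

/-- The free locus of a finitely presented module is open, with the rank locally constant on it. -/
theorem isOpen_freeAt_fp {X : Scheme.{u}} {M : X.Modules} (hM : CohB1.IsFP M) (Q : ℕ → Prop) :
    IsOpen {x : X | FibLocFreeLib.FreeAt Q M x} := by
  haveI : Coh.IsQCoh M := HilbLCLib.isQCoh_of_isFP hM
  have hfree : IsOpen {x : X | Module.Free (X.presheaf.stalk x) (M.presheaf.stalk x)} := by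
    refine isOpen_iff_forall_mem_open.2 fun x hx => ?_
    obtain ⟨U, hU, -, hxU, hfp⟩ := FlatLib.exists_finitePresentation_nhd hM (x := x) (U := ⊤) trivial
    haveI := hfp
    have key : ∀ (y : X) (hy : y ∈ U), Module.Free (X.presheaf.stalk y) (M.presheaf.stalk y) ↔
        hU.primeIdealOf ⟨y, hy⟩ ∈ Module.freeLocus Γ(X, U) Γ(M, U) := by
      intro y hy
      let := Module.compHom (M.presheaf.stalk y) (X.presheaf.germ U y hy).hom
      let : Algebra Γ(X, U) (X.presheaf.stalk y) := (X.presheaf.germ U y hy).hom.toAlgebra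
      have : IsScalarTower Γ(X, U) (X.presheaf.stalk y) (M.presheaf.stalk y) :=
        IsScalarTower.of_algebraMap_smul fun _ _ => rfl
      have : IsLocalization.AtPrime (X.presheaf.stalk y) (hU.primeIdealOf ⟨y, hy⟩).asIdeal :=
        hU.isLocalization_stalk ⟨y, hy⟩
      have := FlatLib.isLocalizedModule_germLin M hU hy
      exact (Module.mem_freeLocus_of_isLocalization (hU.primeIdealOf ⟨y, hy⟩) (X.presheaf.stalk y)
        (M.presheaf.stalk y) (FlatLib.germLin M hy)).symm
    have hcont : Continuous fun y : U => hU.primeIdealOf ⟨y.1, y.2⟩ := hU.isoSpec.hom.continuous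
    refine ⟨Subtype.val '' ((fun y : U => hU.primeIdealOf ⟨y.1, y.2⟩) ⁻¹' Module.freeLocus Γ(X, U) Γ(M, U)),
      ?_, U.2.isOpenMap_subtype_val _ (Module.isOpen_freeLocus.preimage hcont), ⟨⟨x, hxU⟩, (key x hxU).1 hx, rfl⟩⟩
    rintro _ ⟨⟨y, hy⟩, hy', rfl⟩
    exact (key y hy).2 hy'
  let W : X.Opens := ⟨_, hfree⟩
  haveI : Coh.IsQCoh ((Scheme.Modules.pullback W.ι).obj M) := KFlatLib.isQCoh_pullback W.ι M
  have hlf : FlatMod.IsFinLocFree ((Scheme.Modules.pullback W.ι).obj M) :=
    MiscFlat6.isFP_and_free_iff.1 ⟨RichLib.ModFlat.isFP_pullback _ hM, fun y => by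
      letI := (W.ι.stalkMap y).hom.toAlgebra
      obtain ⟨e, -⟩ := CohCmpLib.exists_stalkPullEquiv W.ι M y
      haveI : Module.Free (X.presheaf.stalk (W.ι y)) (CohCmpLib.stk M (W.ι y)) := y.2
      exact Module.Free.of_equiv e⟩
  rw [isOpen_iff_forall_mem_open]
  intro x hx
  obtain ⟨U, m, e, hxU, he⟩ := ProjFormLib.exists_frame hlf ⟨x, hx.1⟩
  refine ⟨W.ι ''ᵁ U, ?_, (W.ι ''ᵁ U).2, ⟨⟨x, hx.1⟩, hxU, rfl⟩⟩
  rintro _ ⟨y, hy, rfl⟩
  haveI : Module.Free (X.presheaf.stalk (W.ι y)) (M.presheaf.stalk (W.ι y)) := y.2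
  haveI : Module.Free (X.presheaf.stalk (W.ι ⟨x, hx.1⟩)) (M.presheaf.stalk (W.ι ⟨x, hx.1⟩)) := hx.1
  have h1 := (FibLocFreeLib.finrank_pullback W.ι M y).symm.trans (MiscFlat6.finrank_of_frame he hy)
  have h2 := (FibLocFreeLib.finrank_pullback W.ι M ⟨x, hx.1⟩).symm.trans (MiscFlat6.finrank_of_frame he hxU)
  refine ⟨y.2, ?_⟩
  exact (congrArg Q (h1.trans h2.symm)).mpr hx.2

/-- A cartesian comparison map is adjoint to an isomorphism. -/
theorem nonempty_iso_of_isCart {Y Z : Scheme.{u}} {h : Y ⟶ Z} {N : Z.Modules} {M : Y.Modules}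
    {c : N ⟶ (Scheme.Modules.pushforward h).obj M} (hc : ModSt.IsCart h c) :
    Nonempty ((Scheme.Modules.pullback h).obj N ≅ M) := by
  let adj := Scheme.Modules.pullbackPushforwardAdjunction h
  let v := (adj.homEquiv N M).symm c
  haveI : IsIso v := by
    rw [isIso_iff_coyoneda_map_bijective]
    intro M'
    have e : (fun w : M ⟶ M' => v ≫ w) =
        (adj.homEquiv N M').symm ∘ (fun w : M ⟶ M' => c ≫ (Scheme.Modules.pushforward h).map w) := by
      funext w
      exact (adj.homEquiv_naturality_right_symm c w).symm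
    rw [e]
    exact (Equiv.bijective _).comp (hc M')
  exact ⟨asIso v⟩

variable {X S : Scheme.{u}} (f : X ⟶ S)

theorem isOpenImm_rankOne [IsProper f] :
    AlgSt.IsOpenImm (AlgSt.subIncl (ModSt.Coh f) fun A => FlatMod.IsFinLocFreeOfRank 1 A.obj.E) := by
  haveI : FibCat.IsFibGrpd (ModSt.Coh f).p := by apply BlowRegLib.ModFibGrpd.coh_isFibGrpd
  let P : ℕ → Prop := fun r => r = 1
  let W : ∀ η : (ModSt.Coh f).obj, η.obj.XT.Opens := fun η => ⟨_, isOpen_freeAt_fp η.property.2 P⟩
  have hcl : ∀ η : (ModSt.Coh f).obj, IsClosed (η.obj.q.base '' (W η : Set η.obj.XT)ᶜ) := fun η =>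
    haveI : IsProper η.obj.q := MorphismProperty.of_isPullback η.obj.isPullback ‹IsProper f›
    η.obj.q.isClosedMap _ (W η).2.isClosed_compl
  refine isOpenImm_of_locus _ (fun η => ⟨(η.obj.q.base '' (W η : Set η.obj.XT)ᶜ)ᶜ, (hcl η).isOpen_compl⟩) ?_
  intro η' η m
  haveI : Coh.IsQCoh η'.obj.E := HilbLCLib.isQCoh_of_isFP η'.property.2
  rw [← FibLocFreeLib.lf_eq_iff η'.obj.E η'.property.2 1]
  have hsq := m.hom.isPullback_top
  obtain ⟨i⟩ := nonempty_iso_of_isCart m.hom.cart
  have key : ∀ x' : η'.obj.XT, FibLocFreeLib.FreeAt P η'.obj.E x' ↔ m.hom.top x' ∈ W η := fun x' =>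
    ⟨fun h => (FibLocFreeLib.freeAt_pullback_iff η.obj.q η.obj.E η.property.2 m.hom.base.left η'.obj.q m.hom.top
      hsq x' (η.property.1 _)).1 (h.of_iso i.symm),
      fun h => ((FibLocFreeLib.freeAt_pullback_iff η.obj.q η.obj.E η.property.2 m.hom.base.left η'.obj.q m.hom.top
      hsq x' (η.property.1 _)).2 h).of_iso i⟩
  constructor
  · rintro hL _ ⟨t, rfl⟩ ⟨y, hy, hyt⟩
    obtain ⟨x', hx', -⟩ := Scheme.exists_preimage_of_isPullback hsq y t hyt
    exact hy (hx' ▸ (key x').1 (hL x'))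
  · intro hr x'
    refine (key x').2 ?_
    by_contra hy
    exact hr ⟨η'.obj.q x', rfl⟩ ⟨m.hom.top x', hy, by
      rw [← Scheme.Hom.comp_apply, hsq.w, Scheme.Hom.comp_apply]
      rfl⟩

end SubImmLib
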