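import Groth.Agent.AlgStBig.Locus

/-!
# Inclusions of substacks cut out by open loci on the bases are open immersions
-/

set_option autoImplicit false
set_option linter.style.haveILetI false
set_option backward.isDefEq.respectTransparency false
set_option backward.isDefEq.respectTransparency.types false
universe vv ww u

open CategoryTheory CategoryTheory.Limits AlgebraicGeometry Opposite AlgSp FibCat FibLib AlgSpLib Topology AlgStLib AlgStBig

noncomputable section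

namespace SubImmLib

/-- A property of objects detected by open subsets of the bases has an open immersion as inclusion. -/
theorem isOpenImm_of_locus {S : Scheme.{u}} {𝒴 : BasedCategory.{vv, ww} (Over S)}
    [IsFibGrpd 𝒴.p] (Q : 𝒴.obj → Prop)
    (V : ∀ η : 𝒴.obj, (𝒴.p.obj η).left.Opens)
    (hQ : ∀ {η' η : 𝒴.obj} (m : η' ⟶ η), Q η' ↔ Set.range (𝒴.p.map m).left.base ⊆ (V η : Set _)) :
    AlgSt.IsOpenImm (AlgSt.subIncl 𝒴 Q) := by
  have hall : ∀ η : 𝒴.obj, Q η ↔ ∀ t : (𝒴.p.obj η).left, t ∈ V η := by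
    intro η
    rw [hQ (𝟙 η), 𝒴.p.map_id]
    exact ⟨fun h t => h ⟨t, rfl⟩, fun h _ ⟨t, ht⟩ => ht ▸ h _⟩
  have down : ∀ {a b : 𝒴.obj} (_ : b ⟶ a), Q a → Q b := fun {a b} m h =>
    (hQ m).2 fun _ ⟨t, ht⟩ => ht ▸ (hall a).1 h _
  have up : ∀ {r q : AlgSt.FPt 𝒴} (_ : r.obj ⟶ q.obj), Q r.obj → Q q.obj := by
    intro r q m hr
    haveI hr' : Nonempty ↥(𝒴.p.obj r.obj).left := by
      rw [r.lies]; exact inferInstanceAs (Nonempty (PrimeSpectrum r.K))
    haveI hq' : Subsingleton ↥(𝒴.p.obj q.obj).left := by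
      rw [q.lies]; exact inferInstanceAs (Subsingleton (PrimeSpectrum q.K))
    obtain ⟨t⟩ := hr'
    exact (hall q.obj).2 fun z => Subsingleton.elim ((𝒴.p.map m).left.base t) z ▸ (hQ m).1 hr ⟨t, rfl⟩
  let T₀ : Set (AlgSt.Points 𝒴) := {z | ∃ q : AlgSt.FPt 𝒴, Q q.obj ∧ AlgSt.Points.mk q = z}
  have congrQ : ∀ {p : AlgSt.FPt 𝒴}, AlgSt.Points.mk p ∈ T₀ → Q p.obj := by
    rintro p ⟨q, hq, e⟩
    obtain ⟨r, a, b, -⟩ := AlgStBig.mk_eq_mk_iff.mp e
    exact up b (down a hq)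
  have hQT : Q = AlgStBig.PtsIn T₀ := by
    funext η
    refine propext ⟨fun h p f => ⟨p, down f h, rfl⟩, fun h => (hall η).2 fun t => ?_⟩
    let str := (𝒴.p.obj η).left.fromSpecResidueField t ≫ (𝒴.p.obj η).hom
    let g : Over.mk str ⟶ 𝒴.p.obj η := Over.homMk ((𝒴.p.obj η).left.fromSpecResidueField t) rfl
    obtain ⟨b, φ, hφ⟩ := FibLib.exists_lift 𝒴.p (a := η) rfl g
    have hb : 𝒴.p.obj b = Over.mk str := @IsHomLift.domain_eq _ _ _ _ 𝒴.p _ _ _ _ g φ hφ
    let p : AlgSt.FPt 𝒴 := ⟨_, str, b, hb⟩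
    have h1 := (hQ φ).1 (congrQ (h p φ))
    have e : 𝒴.p.map φ = eqToHom hb ≫ g := by
      have := @IsHomLift.fac' _ _ _ _ 𝒴.p _ _ _ _ g φ hφ
      simpa using this
    refine h1 ⟨(eqToHom hb.symm).left.base (IsLocalRing.closedPoint _), ?_⟩
    rw [e, ← Scheme.Hom.comp_apply, ← Over.comp_left, ← Category.assoc, eqToHom_trans, eqToHom_refl,
      Category.id_comp]
    exact Scheme.fromSpecResidueField_apply t _
  have hT : ∀ (U : Over S) (x : overCat U ⥤ᵇ 𝒴), IsOpen (AlgSt.Points.ofChart x ⁻¹' T₀) := by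
    intro U x
    let η := x.obj (Over.mk (𝟙 U))
    have hη : 𝒴.p.obj η = U := x.w_obj _
    suffices e : AlgSt.Points.ofChart x ⁻¹' T₀ = (eqToHom hη.symm).left.base ⁻¹' (V η : Set _) by
      rw [e]; exact (V η).2.preimage (eqToHom hη.symm).left.continuous
    ext t
    let gt : Over.mk (U.left.fromSpecResidueField t ≫ U.hom) ⟶ U :=
      Over.homMk (U.left.fromSpecResidueField t) rfl
    have hb : 𝒴.p.obj (x.obj (Over.mk gt)) = Over.mk (U.left.fromSpecResidueField t ≫ U.hom) := x.w_obj _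
    have e : 𝒴.p.map (x.map (FibLib.toId (Over.mk gt))) = eqToHom hb ≫ gt ≫ eqToHom hη.symm := by
      have := @IsHomLift.fac' _ _ _ _ 𝒴.p _ _ _ _ gt _ (FibLib.lift_map x (FibLib.toId (Over.mk gt)))
      simpa using this
    have key : Set.range (𝒴.p.map (x.map (FibLib.toId (Over.mk gt)))).left.base ⊆ (V η : Set _) ↔
        (eqToHom hη.symm).left.base t ∈ V η := by
      rw [e]
      constructor
      · intro h
        refine h ⟨(eqToHom hb.symm).left.base (IsLocalRing.closedPoint _), ?_⟩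
        rw [← Scheme.Hom.comp_apply, ← Over.comp_left, ← Category.assoc, eqToHom_trans, eqToHom_refl,
          Category.id_comp, Over.comp_left, Scheme.Hom.comp_apply]
        exact congrArg (eqToHom hη.symm).left.base (Scheme.fromSpecResidueField_apply t _)
      · rintro h _ ⟨z, rfl⟩
        rw [Over.comp_left, Over.comp_left, Scheme.Hom.comp_apply, Scheme.Hom.comp_apply]
        exact (congrArg (fun s => (eqToHom hη.symm).left.base s ∈ (V η))
          (Scheme.fromSpecResidueField_apply t _)).mpr h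
    have ht := (hQ (x.map (FibLib.toId (Over.mk gt)))).trans key
    exact ⟨fun h => ht.1 (congrQ h), fun h => ⟨_, ht.2 h, rfl⟩⟩
  rw [hQT]
  refine (repByAlgSpWith_iff _ _).mpr fun U u => ?_
  let F := (yon S).obj U
  let O : Set (Points F) := ptMap u ⁻¹' T₀
  have hO : IsOpen O := (Points.schemeHomeo U).isOpen_preimage.1 (hT U (BasedFunctor.comp (AlgSt.ofOverCat U) u))
  have hF := IsAlgSpace.yon_obj (S := S) U
  refine ⟨openSub F O, openSubι F O, isAlgSpace_openSub hF hO, ?_, repWith_openSubι F hO⟩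
  let ι := Stk.ofPshMap (openSubι F O).hom
  have hQ : ∀ o, AlgStBig.PtsIn T₀ (u.obj (ι.obj o)) := fun o =>
    (ptsIn_obj_iff u _).2 fun t => o.sec.property t
  let v : AlgSt.ofSp (openSub F O) ⥤ᵇ AlgSt.fullSub 𝒴 (AlgStBig.PtsIn T₀) :=
    { toFunctor := ObjectProperty.lift (AlgStBig.PtsIn T₀) (ι.toFunctor ⋙ u.toFunctor) hQ
      w := (BasedFunctor.comp ι u).w }
  let e := fpLift (F := u) (G := AlgSt.subIncl 𝒴 (AlgStBig.PtsIn T₀)) ι v (Iso.refl _)
  refine ⟨e, ?_, ⟨Iso.refl _⟩⟩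
  haveI : e.toFunctor.Faithful := ⟨fun {a b} x y h => by
    refine Stk.EltObj.hom_ext ?_
    exact congrArg (fun k => k.hom.fst.hom) h⟩
  haveI : e.toFunctor.Full := ⟨fun {a b} k => by
    have hk : (openSub F O).obj.map k.hom.fst.hom.op b.sec = a.sec := Subtype.ext k.hom.fst.map_sec
    refine ⟨⟨k.hom.fst.hom, hk⟩, fp_hom_ext (Stk.EltObj.hom_ext rfl) (ObjectProperty.hom_ext _ ?_)⟩
    have w := k.hom.w
    change u.map k.hom.fst ≫ 𝟙 _ = 𝟙 _ ≫ k.hom.snd.hom at w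
    erw [Category.comp_id, Category.id_comp] at w
    exact w⟩
  refine isEquivOver_of_vertEssSurj e fun ξ => ?_
  obtain ⟨⟨⟨U', sec⟩, z, i⟩, hi⟩ := ξ
  have hs : AlgStBig.PtsIn T₀ (u.obj ⟨U', sec⟩) := ptsIn_of_hom i.hom z.property
  let o : Stk.EltObj (openSub F O).obj := ⟨U', ⟨sec, (ptsIn_obj_iff u _).1 hs⟩⟩
  let j : (⟨u.obj (ι.obj o), hQ o⟩ : (AlgSt.fullSub 𝒴 (AlgStBig.PtsIn T₀)).obj) ≅ z :=
    ObjectProperty.isoMk _ i
  let k : e.obj o ≅ _ := fpIsoMk (x := e.obj o) (y := ⟨⟨⟨U', sec⟩, z, i⟩, hi⟩) (Iso.refl _) j (by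
    change u.map (𝟙 _) ≫ i.hom = 𝟙 _ ≫ i.hom
    rw [u.toFunctor.map_id])
  refine ⟨o, k, ?_⟩
  haveI : (AlgSt.ofSch U).p.IsHomLift (𝟙 U') k.hom.hom.fst := IsHomLift.id rfl
  exact isHomLift_of_fst (𝟙 U') k.hom


end SubImmLib
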